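import Groth.Agent.ZarPair7.Res
import Groth.Agent.QCoh.Pullback
import Groth.Agent.QCoh.ExtendFT
import Groth.Agent.QCoh.SpecFT
import Groth.Agent.QCoh.LocFree
import Mathlib

/-! Descent of isomorphisms of coherent modules over Zariski pairs with the same quotients. -/

universe u

set_option backward.isDefEq.respectTransparency false
set_option backward.isDefEq.respectTransparency.types false

open CategoryTheory CategoryTheory.Limits AlgebraicGeometry TopologicalSpace Opposite PrimeSpectrum TensorProduct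

namespace Groth.Agent.ZarPair7

/-- The ideal of elements whose basic open lies in `U`. -/
def cutIdeal {R : CommRingCat.{u}} (U : (Spec R).Opens) : Ideal R :=
  PrimeSpectrum.vanishingIdeal ((U : Set (Spec R))ᶜ)

theorem basicOpen_le_iff {R : CommRingCat.{u}} (U : (Spec R).Opens) (g : R) :
    PrimeSpectrum.basicOpen g ≤ U ↔ g ∈ cutIdeal U := by
  rw [cutIdeal, PrimeSpectrum.mem_vanishingIdeal]
  constructor
  · intro h x hx
    by_contra hg
    exact hx (h hg)
  · intro h x hx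
    by_contra hU
    exact hx (h x hU)

theorem zeroLocus_cutIdeal {R : CommRingCat.{u}} (U : (Spec R).Opens) :
    PrimeSpectrum.zeroLocus (cutIdeal U : Set R) = (U : Set (Spec R))ᶜ := by
  rw [cutIdeal, PrimeSpectrum.zeroLocus_vanishingIdeal_eq_closure, (isClosed_compl_iff.2 U.isOpen).closure_eq]

theorem map_le_cutIdeal {A A' : CommRingCat.{u}} (φ : A ⟶ A') (U : (Spec A).Opens) :
    (cutIdeal U).map φ.hom ≤ cutIdeal (Spec.map φ ⁻¹ᵁ U) := by
  refine Ideal.map_le_iff_le_comap.2 fun g hg => ?_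
  rw [Ideal.mem_comap, ← basicOpen_le_iff]
  intro x hx
  exact (basicOpen_le_iff U g).2 hg hx

/-- Restricted tildes commute with inverse images. -/
noncomputable def resPullbackIso {A A' : CommRingCat.{u}} (φ : A ⟶ A') (U : (Spec A).Opens) (M : ModuleCat.{u} A) :
    (Scheme.Modules.pullback (Spec.map φ ∣_ U)).obj ((Res U).obj M) ≅
      (Res (Spec.map φ ⁻¹ᵁ U)).obj ((ModuleCat.extendScalars φ.hom).obj M) :=
  (Scheme.Modules.pullback (Spec.map φ ∣_ U)).mapIso ((Scheme.Modules.restrictFunctorIsoPullback U.ι).app (tilde M)) ≪≫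
    (Scheme.Modules.pullbackComp (Spec.map φ ∣_ U) U.ι).app (tilde M) ≪≫
    (Scheme.Modules.pullbackCongr (morphismRestrict_ι (Spec.map φ) U)).app (tilde M) ≪≫
    ((Scheme.Modules.pullbackComp (Spec.map φ ⁻¹ᵁ U).ι (Spec.map φ)).app (tilde M)).symm ≪≫
    (Scheme.Modules.pullback (Spec.map φ ⁻¹ᵁ U).ι).mapIso ((QCoh.tildePullbackIso φ).app M) ≪≫
    ((Scheme.Modules.restrictFunctorIsoPullback (Spec.map φ ⁻¹ᵁ U).ι).app _).symm

/-- A finite locally free module on an open of a Noetherian affine scheme extends. -/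
theorem exists_res_iso {A : CommRingCat.{u}} [IsNoetherianRing A] (U : (Spec A).Opens)
    (E : (U : Scheme.{u}).Modules) (hq : Coh.IsQCoh E) (hft : CohB1.IsFT E) :
    ∃ P : ModuleCat.{u} A, Module.Finite A P ∧ Nonempty ((Res U).obj P ≅ E) := by
  have hs : QCoh.ExtStep U := QCoh.extStep_noetherian (fun _ => ⟨⊤, trivial, inferInstance⟩) U
  obtain ⟨G, hG, hGft, ⟨e⟩⟩ := QCoh.exists_extension_abs hs E hq hft
  obtain ⟨P, ⟨eP⟩⟩ := QCoh.isQCoh_spec_iff.1 hG
  refine ⟨P, ?_, ⟨(Scheme.Modules.restrictFunctor U.ι).mapIso eP ≪≫ e⟩⟩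
  have hfin := (QCoh.isFT_iff_finite G hG).1 hGft
  exact Module.Finite.equiv (((moduleSpecΓFunctor (R := A)).mapIso eP).toLinearEquiv.symm.trans
    (tilde.toTildeΓNatIso.app P).toLinearEquiv.symm)

theorem exists_surjAway_descend {A A' : Type u} [CommRing A] [CommRing A'] [IsNoetherianRing A]
    [IsNoetherianRing A'] (φ : A →+* A') (J : Ideal A) (hJ : J ≤ (⊥ : Ideal A).jacobson)
    (hJ' : J.map φ ≤ (⊥ : Ideal A').jacobson)
    (hq : ∀ n : ℕ, Function.Bijective (Ideal.quotientMap (Ideal.map φ (J ^ n)) φ Ideal.le_comap_map))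
    (U : (Spec (CommRingCat.of A)).Opens) (hJU : J ≤ cutIdeal U)
    (P Q : ModuleCat.{u} (CommRingCat.of A)) [Module.Finite A P] [Module.Finite A Q]
    (w : (Scheme.Modules.pullback ((Spec.map (CommRingCat.ofHom φ)) ∣_ U)).obj ((Res U).obj P) ≅
      (Scheme.Modules.pullback ((Spec.map (CommRingCat.ofHom φ)) ∣_ U)).obj ((Res U).obj Q)) :
    ∃ (c : ℕ) (h : (((cutIdeal U) ^ c) • (⊤ : Submodule A P) : Submodule A P) →ₗ[A] Q),
      SurjAway (cutIdeal U) h := by
  let _ := φ.toAlgebra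
  have := faithfullyFlat_of_quotients hJ hJ' hq
  let U' := Spec.map (CommRingCat.ofHom φ) ⁻¹ᵁ U
  let P' := (ModuleCat.extendScalars (CommRingCat.ofHom φ).hom).obj P
  let Q' := (ModuleCat.extendScalars (CommRingCat.ofHom φ).hom).obj Q
  have : Module.Finite A' P' := inferInstanceAs (Module.Finite A' (A' ⊗[A] P))
  have : Module.Finite A' Q' := inferInstanceAs (Module.Finite A' (A' ⊗[A] Q))
  have : IsNoetherianRing (CommRingCat.of A') := ‹_›
  obtain ⟨c, h', hh'⟩ := exists_surjAway (U := U') (basicOpen_le_iff U') P' Q'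
    ((resPullbackIso (CommRingCat.ofHom φ) U P).symm ≪≫ w ≪≫ resPullbackIso (CommRingCat.ofHom φ) U Q)
  refine ⟨c, ?_⟩
  set I : Ideal A := cutIdeal U with hI
  set P₀ : Submodule A P := (I ^ c) • ⊤ with hP₀
  -- `A' ⊗ I ^ c P → I' ^ c P'`
  have hmem : ∀ z : A' ⊗[A] P₀, (P₀.subtype.baseChange A') z ∈
      ((cutIdeal U') ^ c) • (⊤ : Submodule A' (A' ⊗[A] P)) := by
    have hle : ((I ^ c).map φ) ≤ (cutIdeal U') ^ c := by
      rw [Ideal.map_pow]; exact Ideal.pow_right_mono (map_le_cutIdeal (CommRingCat.ofHom φ) U) c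
    intro z
    induction z using TensorProduct.induction_on with
    | zero => simp
    | tmul a x =>
      have h2 : a ⊗ₜ[A] (x : P) = a • ((1 : A') ⊗ₜ[A] (x : P)) := by
        rw [TensorProduct.smul_tmul', smul_eq_mul, mul_one]
      rw [LinearMap.baseChange_tmul, Submodule.subtype_apply, h2]
      exact Submodule.smul_mem _ a (Submodule.smul_mono hle le_rfl (one_tmul_mem x.2))
    | add a b ha hb => rw [map_add]; exact add_mem ha hb
  let θ := (P₀.subtype.baseChange A').codRestrict (((cutIdeal U') ^ c) • (⊤ : Submodule A' (A' ⊗[A] P))) hmem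
  have hθ : SurjAway (I.map φ) (h'.comp θ) := by
    refine SurjAway.comp (fun g hg y => ?_) (fun g hg => hh' g (map_le_cutIdeal (CommRingCat.ofHom φ) U hg))
    have hgc : g ^ c ∈ (I ^ c).map φ := by rw [Ideal.map_pow]; exact Ideal.pow_mem_pow hg c
    have key : ∀ a ∈ (I ^ c).map φ, ∀ z : A' ⊗[A] P, a • z ∈ LinearMap.range (P₀.subtype.baseChange A') := by
      intro a ha z
      have hle : (I ^ c).map φ ≤ (LinearMap.range (P₀.subtype.baseChange A')).colon ⊤ := by
        refine Ideal.map_le_iff_le_comap.2 fun r hr => Submodule.mem_colon.2 fun w _ => ?_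
        rw [show φ r = algebraMap A A' r from rfl, algebraMap_smul]
        induction w using TensorProduct.induction_on with
        | zero => simp
        | tmul b p =>
          exact ⟨b ⊗ₜ ⟨r • p, Submodule.smul_mem_smul hr trivial⟩, by
            rw [LinearMap.baseChange_tmul, Submodule.subtype_apply, TensorProduct.tmul_smul]⟩
        | add x y hx hy => rw [smul_add]; exact add_mem (hx trivial) (hy trivial)
      exact Submodule.mem_colon.1 (hle ha) z trivial
    obtain ⟨z, hz⟩ := key _ hgc y.1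
    exact ⟨c, z, Subtype.ext hz⟩
  obtain ⟨e, he⟩ := hθ.exists_pow (IsNoetherian.noetherian _)
  rw [← Ideal.map_pow] at he
  have : Module.Finite A P₀ := Module.Finite.of_injective P₀.subtype P₀.injective_subtype
  obtain ⟨h, hh⟩ := exists_approx hJ (surjective_quot hq) I hJU (h'.comp θ) e he
  exact ⟨h, fun g hg y => by
    obtain ⟨x, hx⟩ := hh (Submodule.smul_mem_smul (Ideal.pow_mem_pow hg e) (trivial : y ∈ ⊤))
    exact ⟨e, x, hx⟩⟩

/-- Coherent modules on `U` isomorphic over `U'` are isomorphic. -/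
theorem nonempty_iso_of_pullback_iso {A A' : Type u} [CommRing A] [CommRing A'] [IsNoetherianRing A]
    [IsNoetherianRing A'] (φ : A →+* A') (J : Ideal A) (hJ : J ≤ (⊥ : Ideal A).jacobson)
    (hJ' : J.map φ ≤ (⊥ : Ideal A').jacobson)
    (hq : ∀ n : ℕ, Function.Bijective (Ideal.quotientMap (Ideal.map φ (J ^ n)) φ Ideal.le_comap_map))
    (U : (Spec (CommRingCat.of A)).Opens) (hU : ∀ p : PrimeSpectrum A, ¬ J ≤ p.asIdeal → p ∈ U)
    (E₁ E₂ : (U : Scheme.{u}).Modules) (h₁ : Coh.IsCoh E₁) (h₂ : Coh.IsCoh E₂)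
    (hiso : Nonempty ((Scheme.Modules.pullback ((Spec.map (CommRingCat.ofHom φ)) ∣_ U)).obj E₁ ≅
      (Scheme.Modules.pullback ((Spec.map (CommRingCat.ofHom φ)) ∣_ U)).obj E₂)) :
    Nonempty (E₁ ≅ E₂) := by
  obtain ⟨w⟩ := hiso
  have : IsNoetherianRing (CommRingCat.of A) := ‹_›
  obtain ⟨P, _, ⟨eP⟩⟩ := exists_res_iso U E₁ h₁.1 h₁.2
  obtain ⟨Q, _, ⟨eQ⟩⟩ := exists_res_iso U E₂ h₂.1 h₂.2
  have hJU : J ≤ cutIdeal U := by
    intro x hx
    rw [cutIdeal, PrimeSpectrum.mem_vanishingIdeal]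
    intro p hp
    by_contra h
    exact hp (hU p fun hle => h (hle hx))
  let F := Scheme.Modules.pullback ((Spec.map (CommRingCat.ofHom φ)) ∣_ U)
  let w' := F.mapIso eP ≪≫ w ≪≫ (F.mapIso eQ).symm
  obtain ⟨c, h, hh⟩ := exists_surjAway_descend φ J hJ hJ' hq U hJU P Q w'
  obtain ⟨d, k, hk⟩ := exists_surjAway_descend φ J hJ hJ' hq U hJU Q P w'.symm
  have : Module.Finite A (((cutIdeal U) ^ c) • (⊤ : Submodule A P) : Submodule A P) :=
    Module.Finite.of_injective (Submodule.subtype _) Subtype.val_injective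
  have hb := bijAway_of_surjAway (bijAway_subtype (cutIdeal U) c) (bijAway_subtype (cutIdeal U) d) hh hk
  let P₀ : ModuleCat.{u} (CommRingCat.of A) := ModuleCat.of _ (((cutIdeal U) ^ c) • (⊤ : Submodule A P) : Submodule A P)
  let ι : P₀ ⟶ P := ModuleCat.ofHom (Submodule.subtype _)
  let f : P₀ ⟶ Q := ModuleCat.ofHom h
  have : IsIso ((Res U).map ι) := (isIso_res_map_iff (basicOpen_le_iff U) ι).2 (bijAway_subtype (cutIdeal U) c)
  have : IsIso ((Res U).map f) := (isIso_res_map_iff (basicOpen_le_iff U) f).2 hb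
  exact ⟨eP.symm ≪≫ (asIso ((Res U).map ι)).symm ≪≫ asIso ((Res U).map f) ≪≫ eQ⟩

end Groth.Agent.ZarPair7
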