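import Groth.Agent.LocalCrit.Flatness
import Mathlib

/-! Approximation of linear maps along Zariski pairs with the same quotients. -/

universe u

open TensorProduct

namespace Groth.Agent.ZarPair7

variable {A A' : Type u} [CommRing A] [CommRing A'] [Algebra A A']

theorem surjective_quot {J : Ideal A}
    (hq : ∀ n : ℕ, Function.Bijective
      (Ideal.quotientMap (Ideal.map (algebraMap A A') (J ^ n)) (algebraMap A A') Ideal.le_comap_map))
    (n : ℕ) (a' : A') : ∃ a : A, a' - algebraMap A A' a ∈ (J ^ n).map (algebraMap A A') := by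
  obtain ⟨a, ha⟩ := (hq n).2 (Ideal.Quotient.mk _ a')
  obtain ⟨a, rfl⟩ := Ideal.Quotient.mk_surjective a
  exact ⟨a, Ideal.Quotient.eq.1 (Eq.trans ha.symm Ideal.quotientMap_mk)⟩

theorem flat_of_quotients [IsNoetherianRing A] [IsNoetherianRing A'] {J : Ideal A}
    (hJ' : J.map (algebraMap A A') ≤ (⊥ : Ideal A').jacobson)
    (hq : ∀ n : ℕ, Function.Bijective
      (Ideal.quotientMap (Ideal.map (algebraMap A A') (J ^ n)) (algebraMap A A') Ideal.le_comap_map)) :
    Module.Flat A A' := by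
  refine LocalCrit.flat_of_forall_quotient_pow (B := A') J hJ' fun n => ?_
  let e : A' ⊗[A] (A ⧸ J ^ n) ≃ₐ[A] (A' ⧸ (J ^ n).map (algebraMap A A')) :=
    (Algebra.TensorProduct.quotIdealMapEquivTensorQuot A' (J ^ n)).symm.restrictScalars A
  let e' : (A ⧸ J ^ n) ⊗[A] A' ≃ₐ[A] (A' ⧸ (J ^ n).map (algebraMap A A')) :=
    (Algebra.TensorProduct.comm A (A ⧸ J ^ n) A').trans e
  have he : ∀ x : A ⧸ J ^ n, e' (x ⊗ₜ 1) =
      Ideal.quotientMap (Ideal.map (algebraMap A A') (J ^ n)) (algebraMap A A') Ideal.le_comap_map x := fun x => by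
    obtain ⟨x, rfl⟩ := Ideal.Quotient.mk_surjective x
    rw [Ideal.quotientMap_mk]
    simp [e', e, Algebra.smul_def]
  have h2 : Function.Bijective (Algebra.linearMap (A ⧸ J ^ n) ((A ⧸ J ^ n) ⊗[A] A')) := by
    refine (Function.Bijective.of_comp_iff' e'.bijective _).1 ?_
    have : (⇑e' ∘ ⇑(Algebra.linearMap (A ⧸ J ^ n) ((A ⧸ J ^ n) ⊗[A] A'))) = ⇑(Ideal.quotientMap
        (Ideal.map (algebraMap A A') (J ^ n)) (algebraMap A A') Ideal.le_comap_map) := funext he
    rw [this]; exact hq n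
  have : Module.Flat (A ⧸ J ^ n) ((A ⧸ J ^ n) ⊗[A] A') :=
    Module.Flat.of_linearEquiv (LinearEquiv.ofBijective _ h2).symm
  exact LocalCrit.keepsInjective_of_flat _ A'

theorem faithfullyFlat_of_quotients [IsNoetherianRing A] [IsNoetherianRing A'] {J : Ideal A}
    (hJ : J ≤ (⊥ : Ideal A).jacobson) (hJ' : J.map (algebraMap A A') ≤ (⊥ : Ideal A').jacobson)
    (hq : ∀ n : ℕ, Function.Bijective
      (Ideal.quotientMap (Ideal.map (algebraMap A A') (J ^ n)) (algebraMap A A') Ideal.le_comap_map)) :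
    Module.FaithfullyFlat A A' := by
  have := flat_of_quotients hJ' hq
  refine ⟨fun m hm htop => ?_⟩
  have hJm : J ≤ m := hJ.trans (sInf_le ⟨bot_le, hm⟩)
  rw [Ideal.smul_top_eq_map] at htop
  have h1 : (1 : A') ∈ m.map (algebraMap A A') := by
    have : (1 : A') ∈ (m.map (algebraMap A A')).restrictScalars A := htop ▸ trivial
    exact this
  let q : A' →+* A ⧸ J ^ 1 :=
    (RingEquiv.ofBijective _ (hq 1)).symm.toRingHom.comp (Ideal.Quotient.mk _)
  have hcomp : q.comp (algebraMap A A') = Ideal.Quotient.mk (J ^ 1) := by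
    ext a
    apply (RingEquiv.ofBijective _ (hq 1)).injective
    exact (RingEquiv.apply_symm_apply _ _).trans (Ideal.quotientMap_mk (H := Ideal.le_comap_map)).symm
  have h2 := Ideal.mem_map_of_mem q h1
  rw [map_one, Ideal.map_map, hcomp] at h2
  obtain ⟨x, hx, hx1⟩ := (Ideal.mem_map_iff_of_surjective _ Ideal.Quotient.mk_surjective).1 h2
  have h3 : x - 1 ∈ J ^ 1 := Ideal.Quotient.eq.1 (hx1.trans (map_one _).symm)
  rw [pow_one] at h3
  exact hm.ne_top ((Ideal.eq_top_iff_one m).2 (by simpa using sub_mem hx (hJm h3)))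

variable {P Q : Type u} [AddCommGroup P] [Module A P] [AddCommGroup Q] [Module A Q]

/-- A linear map of base changes is congruent mod `J ^ n` to the base change of a linear map. -/
theorem exists_congr [Module.Flat A A'] [Module.FinitePresentation A P] {J : Ideal A} (n : ℕ)
    (hs : ∀ a' : A', ∃ a : A, a' - algebraMap A A' a ∈ (J ^ n).map (algebraMap A A'))
    (h' : A' ⊗[A] P →ₗ[A'] A' ⊗[A] Q) :
    ∃ h : P →ₗ[A] Q, ∀ x, h' x - h.baseChange A' x ∈
      (J ^ n).map (algebraMap A A') • (⊤ : Submodule A' (A' ⊗[A] Q)) := by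
  obtain ⟨t, rfl⟩ := (Module.FinitePresentation.isBaseChange_map A P Q A').equiv.surjective h'
  induction t using TensorProduct.induction_on with
  | zero => exact ⟨0, fun x => by simp⟩
  | tmul a' f =>
    obtain ⟨a, ha⟩ := hs a'
    refine ⟨a • f, fun x => ?_⟩
    rw [IsBaseChange.equiv_tmul, LinearMap.baseChange_smul]
    show a' • f.baseChange A' x - a • f.baseChange A' x ∈ _
    rw [← algebraMap_smul A' a (f.baseChange A' x)]
    refine (congrArg (· ∈ (J ^ n).map (algebraMap A A') • (⊤ : Submodule A' (A' ⊗[A] Q))) (sub_smul a' (algebraMap A A' a) (f.baseChange A' x))).mp ?_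
    exact Submodule.smul_mem_smul ha trivial
  | add s t hs' ht' =>
    obtain ⟨f, hf⟩ := hs'
    obtain ⟨g, hg⟩ := ht'
    refine ⟨f + g, fun x => ?_⟩
    have := add_mem (hf x) (hg x)
    rw [map_add, LinearMap.baseChange_add, LinearMap.add_apply, LinearMap.add_apply, add_sub_add_comm]
    exact this

theorem one_tmul_mem {K : Ideal A} {q : Q} (hq : q ∈ K • (⊤ : Submodule A Q)) :
    (1 : A') ⊗ₜ[A] q ∈ K.map (algebraMap A A') • (⊤ : Submodule A' (A' ⊗[A] Q)) := by
  refine Submodule.smul_induction_on hq (fun r hr n _ => ?_) fun x y hx hy => ?_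
  · rw [TensorProduct.tmul_smul, ← algebraMap_smul A' r ((1 : A') ⊗ₜ[A] n)]
    exact Submodule.smul_mem_smul (Ideal.mem_map_of_mem _ hr) trivial
  · rw [TensorProduct.tmul_add]; exact add_mem hx hy

theorem baseChange_mkQ_eq_zero {K : Ideal A} (T : Submodule A Q) (hT : K • (⊤ : Submodule A Q) ≤ T)
    {z : A' ⊗[A] Q} (hz : z ∈ K.map (algebraMap A A') • (⊤ : Submodule A' (A' ⊗[A] Q))) :
    T.mkQ.baseChange A' z = 0 := by
  have hle : K.map (algebraMap A A') ≤ (LinearMap.ker (T.mkQ.baseChange A')).colon ⊤ := by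
    refine Ideal.map_le_iff_le_comap.2 fun r hr => Submodule.mem_colon.2 fun w _ => ?_
    rw [LinearMap.mem_ker, algebraMap_smul]
    induction w using TensorProduct.induction_on with
    | zero => simp
    | tmul b q =>
      have : T.mkQ (r • q) = 0 := (Submodule.Quotient.mk_eq_zero T).2 (hT (Submodule.smul_mem_smul hr trivial))
      rw [← TensorProduct.tmul_smul, LinearMap.baseChange_tmul, this, TensorProduct.tmul_zero]
    | add x y hx hy => rw [smul_add, map_add, hx trivial, hy trivial, add_zero]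
  exact LinearMap.mem_ker.1 ((Submodule.smul_le.2 fun a ha w _ => Submodule.mem_colon.1 (hle ha) w trivial) hz)

/-- Surjectivity away from `I` descends along approximation. -/
theorem exists_approx [IsNoetherianRing A] [Module.FaithfullyFlat A A'] [Module.Finite A P] [Module.Finite A Q]
    {J : Ideal A} (hJ : J ≤ (⊥ : Ideal A).jacobson)
    (hs : ∀ (n : ℕ) (a' : A'), ∃ a : A, a' - algebraMap A A' a ∈ (J ^ n).map (algebraMap A A'))
    (I : Ideal A) (hI : J ≤ I) (h' : A' ⊗[A] P →ₗ[A'] A' ⊗[A] Q) (c : ℕ)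
    (hc : (I ^ c).map (algebraMap A A') • (⊤ : Submodule A' (A' ⊗[A] Q)) ≤ LinearMap.range h') :
    ∃ h : P →ₗ[A] Q, (I ^ c) • (⊤ : Submodule A Q) ≤ LinearMap.range h := by
  have : Module.FinitePresentation A P := Module.finitePresentation_of_finite A P
  obtain ⟨h, hh⟩ := exists_congr (c + 1) (hs (c + 1)) h'
  refine ⟨h, Submodule.le_of_le_smul_of_le_jacobson_bot (IsNoetherian.noetherian _) hJ ?_⟩
  set T := LinearMap.range h ⊔ J • ((I ^ c) • (⊤ : Submodule A Q)) with hT
  intro q hq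
  have hT' : (J ^ (c + 1)) • (⊤ : Submodule A Q) ≤ T := by
    refine le_trans ?_ le_sup_right
    rw [← Submodule.smul_assoc, smul_eq_mul, pow_succ']
    exact Submodule.smul_mono (Ideal.mul_mono le_rfl (Ideal.pow_right_mono hI c)) le_rfl
  obtain ⟨y, hy⟩ := hc (one_tmul_mem hq)
  have h0 : T.mkQ.baseChange A' (h' y) = 0 := by
    have h1 := baseChange_mkQ_eq_zero T hT' (hh y)
    rw [map_sub, sub_eq_zero] at h1
    rw [h1]
    have h2 : T.mkQ ∘ₗ h = 0 := LinearMap.ext fun p =>
      (Submodule.Quotient.mk_eq_zero T).2 (Submodule.mem_sup_left ⟨p, rfl⟩)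
    rw [← LinearMap.comp_apply, ← LinearMap.baseChange_comp, h2, LinearMap.baseChange_zero, LinearMap.zero_apply]
  rw [hy, LinearMap.baseChange_tmul] at h0
  exact (Submodule.Quotient.mk_eq_zero T).1
    (Module.FaithfullyFlat.tensorProduct_mk_injective (A := A) (B := A') _ (h0.trans (TensorProduct.tmul_zero _ 1).symm))

/-- Surjective away from `I`. -/
def SurjAway {R M N : Type*} [CommRing R] [AddCommGroup M] [Module R M] [AddCommGroup N] [Module R N]
    (I : Ideal R) (f : M →ₗ[R] N) : Prop :=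
  ∀ g ∈ I, ∀ y : N, ∃ (n : ℕ) (x : M), f x = g ^ n • y

/-- Bijective away from `I`. -/
def BijAway {R M N : Type*} [CommRing R] [AddCommGroup M] [Module R M] [AddCommGroup N] [Module R N]
    (I : Ideal R) (f : M →ₗ[R] N) : Prop :=
  SurjAway I f ∧ ∀ g ∈ I, ∀ x : M, f x = 0 → ∃ n : ℕ, g ^ n • x = 0

theorem SurjAway.exists_pow {R M N : Type*} [CommRing R] [AddCommGroup M] [Module R M] [AddCommGroup N] [Module R N]
    [Module.Finite R N] {I : Ideal R} (hI : I.FG) {f : M →ₗ[R] N} (h : SurjAway I f) :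
    ∃ c : ℕ, (I ^ c) • (⊤ : Submodule R N) ≤ LinearMap.range f := by
  classical
  obtain ⟨t, ht⟩ := (Module.Finite.fg_top : (⊤ : Submodule R N).FG)
  have hle : I ≤ ((LinearMap.range f).colon ⊤).radical := fun g hg => by
    choose n x hx using fun y : N => h g hg y
    refine ⟨t.sup n, Submodule.mem_colon.2 fun y _ => ?_⟩
    have hy : y ∈ Submodule.span R (t : Set N) := ht ▸ trivial
    induction hy using Submodule.span_induction with
    | mem z hz =>
      obtain ⟨k, hk⟩ := Nat.exists_eq_add_of_le (Finset.le_sup (f := n) hz)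
      refine ⟨g ^ k • x z, ?_⟩
      rw [map_smul, hx, smul_smul, hk, pow_add, mul_comm]
    | zero => simp
    | add a b _ _ ha hb => rw [smul_add]; exact add_mem (ha trivial) (hb trivial)
    | smul r a _ ha => rw [smul_comm]; exact Submodule.smul_mem _ r (ha trivial)
  obtain ⟨c, hc⟩ := Ideal.exists_pow_le_of_le_radical_of_fg hle hI
  exact ⟨c, Submodule.smul_le.2 fun a ha w _ => Submodule.mem_colon.1 (hc ha) w trivial⟩

end Groth.Agent.ZarPair7
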