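import Groth.Agent.ZarPair7.Alg
import Groth.Agent.QCoh.Tilde
import Groth.Agent.QCoh.ClosedPush
import Groth.Agent.QCoh.Qcqs
import Mathlib

/-! Tilde modules restricted to an open of `Spec R`, and maps bijective away from its complement. -/

universe u

set_option backward.isDefEq.respectTransparency false
set_option backward.isDefEq.respectTransparency.types false

open CategoryTheory CategoryTheory.Limits AlgebraicGeometry TopologicalSpace Opposite PrimeSpectrum

namespace Groth.Agent.ZarPair7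

variable {R : CommRingCat.{u}} (U : (Spec R).Opens)

/-- `M ↦ M~|U`. -/
noncomputable abbrev Res : ModuleCat.{u} R ⥤ (U : Scheme.{u}).Modules :=
  tilde.functor R ⋙ Scheme.Modules.restrictFunctor U.ι

variable {U}

theorem app_eq_map {M N : ModuleCat.{u} R} (f : M ⟶ N) (g : R) :
    (modulesSpecToSheaf.map (tilde.map f)).1.app (op (PrimeSpectrum.basicOpen g)) =
      ModuleCat.ofHom (IsLocalizedModule.map (.powers g)
        (tilde.toOpen M (PrimeSpectrum.basicOpen g)).hom
        (tilde.toOpen N (PrimeSpectrum.basicOpen g)).hom f.hom) := by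
  ext1
  refine IsLocalizedModule.ext (.powers g) (tilde.toOpen M (PrimeSpectrum.basicOpen g)).hom
    (fun x => IsLocalizedModule.map_units (tilde.toOpen N (PrimeSpectrum.basicOpen g)).hom x) ?_
  rw [ModuleCat.hom_ofHom, IsLocalizedModule.map_comp]
  exact congrArg ModuleCat.Hom.hom (tilde.toOpen_map_app f _)

/-- Bijectivity of a localized map, in elementary terms. -/
theorem bijective_map_iff {A : Type*} [CommRing A] {M M' N N' : Type*} [AddCommGroup M] [Module A M]
    [AddCommGroup M'] [Module A M'] [AddCommGroup N] [Module A N] [AddCommGroup N'] [Module A N']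
    (g : A) (φ : M →ₗ[A] M') [IsLocalizedModule (.powers g) φ] (ψ : N →ₗ[A] N') [IsLocalizedModule (.powers g) ψ]
    (f : M →ₗ[A] N) :
    Function.Bijective (IsLocalizedModule.map (.powers g) φ ψ f) ↔
      (∀ y : N, ∃ (n : ℕ) (x : M), f x = g ^ n • y) ∧ ∀ x : M, f x = 0 → ∃ n : ℕ, g ^ n • x = 0 := by
  constructor
  · rintro ⟨hi, hs⟩
    refine ⟨fun y => ?_, fun x hx => ?_⟩
    · obtain ⟨x', hx'⟩ := hs (ψ y)
      obtain ⟨⟨x, ⟨_, n, rfl⟩⟩, hx⟩ := IsLocalizedModule.surj (.powers g) φ x'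
      replace hx : g ^ n • x' = φ x := hx
      have h1 : ψ (f x) = ψ (g ^ n • y) := by
        rw [map_smul, ← hx', ← IsLocalizedModule.map_apply (.powers g) φ ψ f x, ← hx]
        exact map_smul _ _ _
      obtain ⟨⟨_, m, rfl⟩, hm⟩ := (IsLocalizedModule.eq_iff_exists (.powers g) ψ).1 h1
      refine ⟨m + n, g ^ m • x, ?_⟩
      rw [map_smul, pow_add, mul_smul]
      exact hm
    · have h1 : φ x = 0 := hi (by rw [IsLocalizedModule.map_apply, hx, map_zero, map_zero])
      obtain ⟨⟨_, m, rfl⟩, hm⟩ := (IsLocalizedModule.eq_zero_iff (.powers g) φ).1 h1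
      exact ⟨m, hm⟩
  · rintro ⟨hs, hi⟩
    refine ⟨(injective_iff_map_eq_zero _).2 fun x' hx' => ?_, fun y' => ?_⟩
    · obtain ⟨⟨x, ⟨_, n, rfl⟩⟩, hx⟩ := IsLocalizedModule.surj (.powers g) φ x'
      replace hx : g ^ n • x' = φ x := hx
      have h1 : ψ (f x) = 0 := by
        rw [← IsLocalizedModule.map_apply (.powers g) φ ψ f x, ← hx]
        refine (map_smul _ _ _).trans ?_
        rw [hx', smul_zero]
      obtain ⟨⟨_, m, rfl⟩, hm⟩ := (IsLocalizedModule.eq_zero_iff (.powers g) ψ).1 h1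
      obtain ⟨k, hk⟩ := hi (g ^ m • x) (by rw [map_smul]; exact hm)
      have h2 : φ x = 0 := (IsLocalizedModule.eq_zero_iff (.powers g) φ).2 ⟨⟨g ^ (k + m), k + m, rfl⟩, by
        show g ^ (k + m) • x = 0
        rw [pow_add, mul_smul, hk]⟩
      have h3 : g ^ n • x' = 0 := hx.trans h2
      exact IsLocalizedModule.smul_injective φ (⟨g ^ n, n, rfl⟩ : Submonoid.powers g) (h3.trans (smul_zero _).symm)
    · obtain ⟨⟨y, ⟨_, n, rfl⟩⟩, hy⟩ := IsLocalizedModule.surj (.powers g) ψ y'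
      obtain ⟨m, x, hx⟩ := hs y
      refine ⟨IsLocalizedModule.mk' φ x (⟨g ^ (m + n), m + n, rfl⟩ : Submonoid.powers g), ?_⟩
      rw [IsLocalizedModule.map_mk', IsLocalizedModule.mk'_eq_iff, hx, map_smul, ← hy]
      show g ^ m • g ^ n • y' = g ^ (m + n) • y'
      rw [pow_add, mul_smul]

/-- Bijectivity away from `I`, for an ideal cutting out the complement of `U`. -/
theorem isIso_res_map_iff {I : Ideal R} (hI : ∀ g : R, PrimeSpectrum.basicOpen g ≤ U ↔ g ∈ I)
    {M N : ModuleCat.{u} R} (f : M ⟶ N) : IsIso ((Res U).map f) ↔ BijAway I f.hom := by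
  constructor
  · intro h
    refine forall₂_and.1 fun g hg => (bijective_map_iff g
      (tilde.toOpen M (PrimeSpectrum.basicOpen g)).hom (tilde.toOpen N (PrimeSpectrum.basicOpen g)).hom f.hom).1 ?_
    have h1 := (ConcreteCategory.isIso_iff_bijective _).1
      (Scheme.Modules.Hom.isIso_iff_isIso_app.1 h (U.ι ⁻¹ᵁ PrimeSpectrum.basicOpen g))
    have hV : U.ι ''ᵁ (U.ι ⁻¹ᵁ PrimeSpectrum.basicOpen g) = PrimeSpectrum.basicOpen g := by
      rw [Scheme.Hom.image_preimage_eq_opensRange_inf, Scheme.Opens.opensRange_ι]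
      exact inf_eq_right.2 ((hI g).2 hg)
    have h2 : Function.Bijective ((tilde.map f).app (U.ι ''ᵁ (U.ι ⁻¹ᵁ PrimeSpectrum.basicOpen g))) := h1
    rw [hV] at h2
    have h3 : Function.Bijective ((modulesSpecToSheaf.map (tilde.map f)).1.app (op (PrimeSpectrum.basicOpen g))) := h2
    rw [app_eq_map] at h3
    exact h3
  · intro h
    refine QCoh.isIso_of_isBasis _ (B := {V | ∃ g ∈ I, U.ι ⁻¹ᵁ PrimeSpectrum.basicOpen g = V}) ?_ ?_
    · refine Opens.isBasis_iff_nbhd.2 fun {V x} hx => ?_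
      obtain ⟨_, ⟨g, rfl⟩, hxg, hg⟩ := Opens.isBasis_iff_nbhd.1 PrimeSpectrum.isBasis_basic_opens
        (show U.ι x ∈ U.ι ''ᵁ V from ⟨x, hx, rfl⟩)
      refine ⟨_, ⟨g, (hI g).1 ?_, rfl⟩, hxg, ?_⟩
      · exact hg.trans ((Scheme.Hom.image_le_opensRange _ _).trans (Scheme.Opens.opensRange_ι U).le)
      · exact (show U.ι ⁻¹ᵁ _ ≤ U.ι ⁻¹ᵁ _ from fun y hy => hg hy).trans (Scheme.Hom.preimage_image_eq _ V).le
    · rintro _ ⟨g, hg, rfl⟩
      have hV : U.ι ''ᵁ (U.ι ⁻¹ᵁ PrimeSpectrum.basicOpen g) = PrimeSpectrum.basicOpen g := by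
        rw [Scheme.Hom.image_preimage_eq_opensRange_inf, Scheme.Opens.opensRange_ι]
        exact inf_eq_right.2 ((hI g).2 hg)
      show Function.Bijective ((tilde.map f).app (U.ι ''ᵁ (U.ι ⁻¹ᵁ PrimeSpectrum.basicOpen g)))
      rw [hV]
      show Function.Bijective ((modulesSpecToSheaf.map (tilde.map f)).1.app (op (PrimeSpectrum.basicOpen g)))
      rw [app_eq_map]
      exact (bijective_map_iff g _ _ f.hom).2 ⟨h.1 g hg, h.2 g hg⟩

/-- An isomorphism over `U` comes from a map surjective away from `I`, after shrinking the source. -/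
theorem exists_surjAway [IsNoetherianRing R] {I : Ideal R} (hI : ∀ g : R, PrimeSpectrum.basicOpen g ≤ U ↔ g ∈ I)
    (P Q : ModuleCat.{u} R) [Module.Finite R P] [Module.Finite R Q]
    (w : (Res U).obj P ≅ (Res U).obj Q) :
    ∃ (c : ℕ) (h : ((I ^ c) • (⊤ : Submodule R P) : Submodule R P) →ₗ[R] Q), SurjAway I h := by
  let adj := Scheme.Modules.restrictAdjunction U.ι
  haveI : QuasiCompact U.ι := inferInstance
  let F := (Scheme.Modules.pushforward U.ι).obj ((Res U).obj Q)
  have hF : Coh.IsQCoh F :=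
    QCoh.isQCoh_pushforward _ (QCoh.isQCoh_restrict _ (QCoh.isQCoh_spec_iff.2 ⟨Q, ⟨Iso.refl _⟩⟩))
  obtain ⟨N, ⟨eN⟩⟩ := QCoh.isQCoh_spec_iff.1 hF
  let R' := Scheme.Modules.restrictFunctor U.ι
  have hu : IsIso (R'.map (adj.unit.app (tilde Q))) := by
    have h1 := adj.left_triangle_components (tilde Q)
    exact IsIso.of_isIso_fac_right h1
  let ι : Q ⟶ N := (tilde.functor R).preimage (adj.unit.app (tilde Q) ≫ eN.inv)
  let h₀ : P ⟶ N := (tilde.functor R).preimage (adj.homEquiv (tilde P) ((Res U).obj Q) w.hom ≫ eN.inv)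
  have hι : BijAway I ι.hom := by
    rw [← isIso_res_map_iff hI]
    show IsIso (R'.map ((tilde.functor R).map ((tilde.functor R).preimage _)))
    rw [Functor.map_preimage, Functor.map_comp]
    infer_instance
  have hh₀ : BijAway I h₀.hom := by
    rw [← isIso_res_map_iff hI]
    show IsIso (R'.map ((tilde.functor R).map ((tilde.functor R).preimage _)))
    rw [Functor.map_preimage, Functor.map_comp]
    have : IsIso (R'.map (adj.homEquiv (tilde P) ((Res U).obj Q) w.hom)) := by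
      rw [Adjunction.homEquiv_unit, Functor.map_comp]
      have : IsIso (R'.map (adj.unit.app (tilde P))) :=
        IsIso.of_isIso_fac_right (adj.left_triangle_components (tilde P))
      infer_instance
    infer_instance
  obtain ⟨c, hc⟩ : ∃ c, (I ^ c) • (⊤ : Submodule R (LinearMap.range h₀.hom)) ≤
      LinearMap.range (((LinearMap.range ι.hom).comap (LinearMap.range h₀.hom).subtype).subtype) :=
    SurjAway.exists_pow (IsNoetherian.noetherian I) fun g hg y => by
      obtain ⟨p, hp⟩ := y.2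
      obtain ⟨n, q, hq⟩ := hι.1 g hg y.1
      exact ⟨n, ⟨g ^ n • y, ⟨q, hq⟩⟩, rfl⟩
  -- `ι` is injective on `I ^ d • ⊤`
  obtain ⟨t, ht⟩ : ∃ t, (I ^ t) • (⊤ : Submodule R (LinearMap.ker ι.hom)) ≤ LinearMap.range (0 : R →ₗ[R] LinearMap.ker ι.hom) :=
    SurjAway.exists_pow (IsNoetherian.noetherian I) fun g hg y => by
      obtain ⟨n, hn⟩ := hι.2 g hg y.1 y.2
      exact ⟨n, 0, by rw [map_zero]; exact Subtype.ext hn.symm⟩
  obtain ⟨k, hk⟩ := Ideal.exists_pow_inf_eq_pow_smul I (LinearMap.ker ι.hom)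
  let d := k + t
  have hd : ∀ q ∈ (I ^ d) • (⊤ : Submodule R Q), ι.hom q = 0 → q = 0 := by
    intro q hq hq0
    have h1 : q ∈ I ^ (d - k) • (I ^ k • ⊤ ⊓ LinearMap.ker ι.hom) := hk d (Nat.le_add_right _ _) ▸ ⟨hq, hq0⟩
    have h2 : q ∈ I ^ t • LinearMap.ker ι.hom := by
      simp only [d, Nat.add_sub_cancel_left] at h1
      exact Submodule.smul_mono le_rfl inf_le_right h1
    refine Submodule.smul_induction_on h2 (fun r hr n hn => ?_) fun x y hx hy => by rw [hx, hy, add_zero]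
    obtain ⟨z, hz⟩ := ht (Submodule.smul_mem_smul hr (trivial : (⟨n, hn⟩ : LinearMap.ker ι.hom) ∈ ⊤))
    exact (congrArg Subtype.val hz).symm
  let Q₁ : Submodule R Q := (I ^ d) • ⊤
  let ι₁ : Q₁ →ₗ[R] N := ι.hom ∘ₗ Q₁.subtype
  have hι₁ : Function.Injective ι₁ := (injective_iff_map_eq_zero _).2 fun q hq => Subtype.ext (hd q.1 q.2 hq)
  have hmem : ∀ x ∈ (I ^ (d + c)) • (⊤ : Submodule R P), h₀.hom x ∈ LinearMap.range ι₁ := by
    intro x hx
    rw [pow_add, mul_smul] at hx
    refine Submodule.smul_induction_on hx (fun r hr y hy => ?_) fun a b ha hb => by rw [map_add]; exact add_mem ha hb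
    have h1 : h₀.hom y ∈ LinearMap.range ι.hom := by
      refine Submodule.smul_induction_on hy (fun s hs z _ => ?_) fun a b ha hb => by rw [map_add]; exact add_mem ha hb
      obtain ⟨z', hz'⟩ := hc (Submodule.smul_mem_smul hs
        (trivial : (⟨h₀.hom z, z, rfl⟩ : LinearMap.range h₀.hom) ∈ ⊤))
      have h2 : (z'.1 : N) = s • h₀.hom z := congrArg Subtype.val hz'
      rw [map_smul, ← h2]
      exact z'.2
    obtain ⟨q, hq⟩ := h1
    exact ⟨⟨r • q, Submodule.smul_mem_smul hr trivial⟩, by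
      show ι.hom (r • q) = h₀.hom (r • y)
      rw [map_smul, map_smul, hq]⟩
  let e := LinearEquiv.ofInjective ι₁ hι₁
  refine ⟨d + c, Q₁.subtype ∘ₗ e.symm.toLinearMap ∘ₗ (h₀.hom.restrict hmem), fun g hg q => ?_⟩
  obtain ⟨n, x, hx⟩ := hh₀.1 g hg (ι.hom q)
  refine ⟨d + c + n, ⟨g ^ (d + c) • x, Submodule.smul_mem_smul (Ideal.pow_mem_pow hg _) trivial⟩, ?_⟩
  have hq1 : g ^ (d + c + n) • q ∈ Q₁ := Submodule.smul_mem_smul
    (Ideal.pow_le_pow_right (by omega) (Ideal.pow_mem_pow hg (d + c + n))) trivial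
  show ((e.symm (h₀.hom.restrict hmem ⟨_, _⟩)) : Q) = _
  refine (congrArg Subtype.val ((LinearEquiv.symm_apply_eq e).2 (?_ : _ = e ⟨_, hq1⟩)) :)
  apply Subtype.ext
  show h₀.hom (g ^ (d + c) • x) = ι.hom (g ^ (d + c + n) • q)
  rw [map_smul, hx, map_smul, smul_smul, ← pow_add]

theorem SurjAway.comp {A M N L : Type*} [CommRing A] [AddCommGroup M] [Module A M] [AddCommGroup N] [Module A N]
    [AddCommGroup L] [Module A L] {I : Ideal A} {f : M →ₗ[A] N} {g : N →ₗ[A] L}
    (hf : SurjAway I f) (hg : SurjAway I g) : SurjAway I (g ∘ₗ f) := fun a ha z => by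
  obtain ⟨n, y, hy⟩ := hg a ha z
  obtain ⟨m, x, hx⟩ := hf a ha y
  exact ⟨m + n, x, by rw [LinearMap.comp_apply, hx, map_smul, hy, smul_smul, ← pow_add]⟩

theorem surjective_map {A M N : Type*} [CommRing A] [AddCommGroup M] [Module A M] [AddCommGroup N] [Module A N]
    {I : Ideal A} {l : M →ₗ[A] N} (hl : SurjAway I l) {g : A} (hg : g ∈ I) :
    Function.Surjective (IsLocalizedModule.map (Submonoid.powers g) (LocalizedModule.mkLinearMap (Submonoid.powers g) M)
      (LocalizedModule.mkLinearMap (Submonoid.powers g) N) l) := by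
  intro y'
  obtain ⟨⟨y, ⟨_, n, rfl⟩⟩, hy⟩ := IsLocalizedModule.surj (Submonoid.powers g) (LocalizedModule.mkLinearMap (Submonoid.powers g) N) y'
  obtain ⟨m, x, hx⟩ := hl g hg y
  refine ⟨IsLocalizedModule.mk' (LocalizedModule.mkLinearMap (Submonoid.powers g) M) x
    (⟨g ^ (m + n), m + n, rfl⟩ : Submonoid.powers g), ?_⟩
  rw [IsLocalizedModule.map_mk', IsLocalizedModule.mk'_eq_iff, hx, map_smul, ← hy]
  show g ^ m • g ^ n • y' = g ^ (m + n) • y'
  rw [pow_add, mul_smul]

/-- Mutually surjective away from `I` maps are bijective away from `I`. -/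
theorem bijAway_of_surjAway {A P P₀ Q Q₀ : Type*} [CommRing A] [AddCommGroup P] [Module A P] [AddCommGroup P₀]
    [Module A P₀] [AddCommGroup Q] [Module A Q] [AddCommGroup Q₀] [Module A Q₀] [Module.Finite A P₀]
    {I : Ideal A} {ιP : P₀ →ₗ[A] P} {ιQ : Q₀ →ₗ[A] Q} (hP : BijAway I ιP) (hQ : BijAway I ιQ)
    {f : P₀ →ₗ[A] Q} (hf : SurjAway I f) {k : Q₀ →ₗ[A] P} (hk : SurjAway I k) : BijAway I f := by
  refine ⟨hf, fun g hg => ?_⟩
  let S := Submonoid.powers g
  let M1 := IsLocalizedModule.map S (LocalizedModule.mkLinearMap S P₀) (LocalizedModule.mkLinearMap S Q) f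
  let M2 := IsLocalizedModule.map S (LocalizedModule.mkLinearMap S Q₀) (LocalizedModule.mkLinearMap S P) k
  have hιP := (bijective_map_iff g (LocalizedModule.mkLinearMap S P₀) (LocalizedModule.mkLinearMap S P) ιP).2
    ⟨hP.1 g hg, hP.2 g hg⟩
  have hιQ := (bijective_map_iff g (LocalizedModule.mkLinearMap S Q₀) (LocalizedModule.mkLinearMap S Q) ιQ).2
    ⟨hQ.1 g hg, hQ.2 g hg⟩
  let eP := LinearEquiv.ofBijective _ hιP
  let eQ := LinearEquiv.ofBijective _ hιQ
  let φ := eP.symm.toLinearMap ∘ₗ M2 ∘ₗ eQ.symm.toLinearMap ∘ₗ M1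
  have hφ : Function.Surjective φ :=
    eP.symm.surjective.comp ((surjective_map hk hg).comp (eQ.symm.surjective.comp (surjective_map hf hg)))
  let φ' := LinearMap.extendScalarsOfIsLocalization S (Localization S) φ
  have hφ' : Function.Injective φ' := OrzechProperty.injective_of_surjective_endomorphism φ' hφ
  have hinj : Function.Injective M1 := fun a b hab => hφ' (by
    show φ a = φ b
    simp only [φ, LinearMap.comp_apply, hab])
  intro x hx
  have h0 : LocalizedModule.mkLinearMap S P₀ x = 0 := hinj (by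
    rw [map_zero]; exact (IsLocalizedModule.map_apply S _ _ f x).trans (by rw [hx, map_zero]))
  obtain ⟨⟨_, m, rfl⟩, hm⟩ := (IsLocalizedModule.eq_zero_iff S (LocalizedModule.mkLinearMap S P₀)).1 h0
  exact ⟨m, hm⟩

theorem bijAway_subtype {A P : Type*} [CommRing A] [AddCommGroup P] [Module A P] (I : Ideal A) (c : ℕ) :
    BijAway I ((I ^ c) • (⊤ : Submodule A P) : Submodule A P).subtype :=
  ⟨fun g hg y => ⟨c, ⟨g ^ c • y, Submodule.smul_mem_smul (Ideal.pow_mem_pow hg c) trivial⟩, rfl⟩,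
    fun _ _ x hx => ⟨0, by rw [pow_zero, one_smul]; exact Subtype.ext hx⟩⟩

end Groth.Agent.ZarPair7
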